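import Cfsg.Agent.Lib.Char.Ortho
import Cfsg.Agent.Lib.Char.Central

/-!
# Three generalized characters of norm three
-/

set_option autoImplicit false

namespace Cfsg.Agent.Spor.PSLFourThree.Wreath

open Cfsg Cfsg.Agent.Char

section Comb

variable {ι : Type*} [DecidableEq ι]

theorem two_support {s : Finset ι} {z : ι → ℤ} (h : ∑ i ∈ s, z i ^ 2 = 2) :
    ∃ i ∈ s, ∃ j ∈ s, i ≠ j ∧ z i * z i = 1 ∧ z j * z j = 1 ∧ ∀ k ∈ s, k ≠ i → k ≠ j → z k = 0 := by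
  have hle : ∀ k ∈ s, z k ^ 2 ≤ 2 := fun k hk =>
    h ▸ Finset.single_le_sum (f := fun i => z i ^ 2) (fun i _ => sq_nonneg _) hk
  have hsq : ∀ k ∈ s, z k ≠ 0 → z k ^ 2 = 1 := fun k hk h0 => by
    have h1 := hle k hk
    have : z k ≤ 1 ∧ -1 ≤ z k := ⟨by nlinarith, by nlinarith⟩
    rcases (by omega : z k = 1 ∨ z k = -1) with e | e <;> rw [e] <;> norm_num
  have hcard : (s.filter fun k => z k ≠ 0).card = 2 := by
    have e : ∑ k ∈ s.filter (fun k => z k ≠ 0), z k ^ 2 = 2 :=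
      (Finset.sum_filter_of_ne (p := fun k => z k ≠ 0) fun k _ hne (h0 : z k = 0) => hne (by simp only [h0]; norm_num)).trans h
    rw [Finset.sum_congr rfl fun k hk => hsq k (Finset.mem_filter.1 hk).1 (Finset.mem_filter.1 hk).2,
      Finset.sum_const, nsmul_one] at e
    exact_mod_cast e
  obtain ⟨i, j, hij, e⟩ := Finset.card_eq_two.1 hcard
  have hi : i ∈ s.filter fun k => z k ≠ 0 := by rw [e]; simp
  have hj : j ∈ s.filter fun k => z k ≠ 0 := by rw [e]; simp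
  rw [Finset.mem_filter] at hi hj
  refine ⟨i, hi.1, j, hj.1, hij, by rw [← pow_two]; exact hsq i hi.1 hi.2,
    by rw [← pow_two]; exact hsq j hj.1 hj.2, fun k hk hki hkj => ?_⟩
  by_contra hne
  have : k ∈ s.filter fun k => z k ≠ 0 := Finset.mem_filter.2 ⟨hk, hne⟩
  rw [e] at this
  simp [hki, hkj] at this

theorem dot_one {a b x y : ℤ} (ha : a * a = 1) (hb : b * b = 1) (hx : -1 ≤ x ∧ x ≤ 1) (hy : -1 ≤ y ∧ y ≤ 1)
    (h : a * x + b * y = 1) : (x = a ∧ y = 0) ∨ (x = 0 ∧ y = b) := by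
  rcases Int.eq_one_or_neg_one_of_mul_eq_one ha with rfl | rfl <;>
    rcases Int.eq_one_or_neg_one_of_mul_eq_one hb with rfl | rfl <;> omega

theorem unit_bound {s : Finset ι} {z : ι → ℤ} (h : ∑ i ∈ s, z i ^ 2 = 2) {k : ι} (hk : k ∈ s) :
    -1 ≤ z k ∧ z k ≤ 1 := by
  have h1 : z k ^ 2 ≤ 2 := h ▸ Finset.single_le_sum (f := fun i => z i ^ 2) (fun i _ => sq_nonneg _) hk
  constructor <;> nlinarith

/-- The possible shapes of three vectors of norm two with inner products one, one and zero. -/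
theorem shape {s : Finset ι} {u v w : ι → ℤ} (hu : ∑ i ∈ s, u i ^ 2 = 2) (hv : ∑ i ∈ s, v i ^ 2 = 2)
    (hw : ∑ i ∈ s, w i ^ 2 = 2) (huv : ∑ i ∈ s, u i * v i = 1) (hvw : ∑ i ∈ s, v i * w i = 1)
    (huw : ∑ i ∈ s, u i * w i = 0) :
    ∃ i j k l : ι, ∃ a b c p : ℤ, i ∈ s ∧ j ∈ s ∧ k ∈ s ∧ l ∈ s ∧
      a * a = 1 ∧ b * b = 1 ∧ c * c = 1 ∧ p * p = 1 ∧
      (∀ f : ι → ℂ, ∑ t ∈ s, (u t : ℂ) * f t = a * f i + b * f j) ∧
      (∀ f : ι → ℂ, ∑ t ∈ s, (v t : ℂ) * f t = a * f i + c * f k) ∧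
      ((∀ f : ι → ℂ, ∑ t ∈ s, (w t : ℂ) * f t = c * f k + p * f l) ∨
        ∀ f : ι → ℂ, ∑ t ∈ s, (w t : ℂ) * f t = a * f i - b * f j) := by
  have red : ∀ (z : ι → ℤ) (i j : ι), i ∈ s → j ∈ s → i ≠ j → (∀ k ∈ s, k ≠ i → k ≠ j → z k = 0) →
      ∀ f : ι → ℂ, ∑ t ∈ s, (z t : ℂ) * f t = (z i : ℂ) * f i + (z j : ℂ) * f j := by
    intro z i j hi hj hij h0 f
    rw [← Finset.sum_subset (s₁ := {i, j}) (by intro t ht; simp at ht; rcases ht with rfl | rfl <;> assumption)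
      fun t ht hn => by simp at hn; rw [h0 t ht hn.1 hn.2]; simp, Finset.sum_pair hij]
  have redz : ∀ (z : ι → ℤ) (i j : ι), i ∈ s → j ∈ s → i ≠ j → (∀ k ∈ s, k ≠ i → k ≠ j → z k = 0) →
      ∀ f : ι → ℤ, ∑ t ∈ s, z t * f t = z i * f i + z j * f j := by
    intro z i j hi hj hij h0 f
    rw [← Finset.sum_subset (s₁ := {i, j}) (by intro t ht; simp at ht; rcases ht with rfl | rfl <;> assumption)
      fun t ht hn => by simp at hn; rw [h0 t ht hn.1 hn.2]; simp, Finset.sum_pair hij]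
  obtain ⟨i₀, hi₀, j₀, hj₀, hij₀, ha₀, hb₀, hu0⟩ := two_support hu
  obtain ⟨i, j, hi, hj, hij, hui, huj, hu0, hvi, hvj⟩ : ∃ i j, i ∈ s ∧ j ∈ s ∧ i ≠ j ∧
      u i * u i = 1 ∧ u j * u j = 1 ∧ (∀ k ∈ s, k ≠ i → k ≠ j → u k = 0) ∧ v i = u i ∧ v j = 0 := by
    have h := huv
    rw [redz u i₀ j₀ hi₀ hj₀ hij₀ hu0] at h
    rcases dot_one ha₀ hb₀ (unit_bound hv hi₀) (unit_bound hv hj₀) h with ⟨e1, e2⟩ | ⟨e1, e2⟩
    · exact ⟨i₀, j₀, hi₀, hj₀, hij₀, ha₀, hb₀, hu0, e1, e2⟩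
    · exact ⟨j₀, i₀, hj₀, hi₀, hij₀.symm, hb₀, ha₀, fun k hk h1 h2 => hu0 k hk h2 h1, e2, e1⟩
  obtain ⟨k, hk, hki, hkj, hvk, hv0⟩ : ∃ k ∈ s, k ≠ i ∧ k ≠ j ∧ v k * v k = 1 ∧
      ∀ t ∈ s, t ≠ i → t ≠ k → v t = 0 := by
    obtain ⟨p, hp, q, hq, hpq, hp1, hq1, h0⟩ := two_support hv
    have hne : ∀ t, v t * v t = 1 → t ≠ j := fun t ht e => by rw [e, hvj] at ht; exact absurd ht (by norm_num)
    have hip : i = p ∨ i = q := by
      by_contra hn
      push Not at hn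
      have := h0 i hi hn.1 hn.2
      rw [hvi] at this
      rw [this] at hui
      exact absurd hui (by norm_num)
    rcases hip with rfl | rfl
    · exact ⟨q, hq, hpq.symm, hne q hq1, hq1, h0⟩
    · exact ⟨p, hp, hpq, hne p hp1, hp1, fun t ht h1 h2 => h0 t ht h2 h1⟩
  have hu' := red u i j hi hj hij hu0
  have hv' := red v i k hi hk hki.symm hv0
  have h1 := hvw
  rw [redz v i k hi hk hki.symm hv0, hvi] at h1
  have h2 := huw
  rw [redz u i j hi hj hij hu0] at h2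
  obtain ⟨p, hp, q, hq, hpq, hp1, hq1, hw0⟩ := two_support hw
  have hmem : ∀ t ∈ s, w t ≠ 0 → t = p ∨ t = q := fun t ht hne => by
    by_contra hn
    push Not at hn
    exact hne (hw0 t ht hn.1 hn.2)
  rcases dot_one hui hvk (unit_bound hw hi) (unit_bound hw hk) h1 with ⟨e1, e2⟩ | ⟨e1, e2⟩
  · -- the degenerate shape
    rw [e1, hui] at h2
    have hwj : w j = -u j := by linear_combination (u j) * h2 - (w j) * huj
    have hi0 : w i ≠ 0 := fun e => by rw [e1] at e; rw [e] at hui; exact absurd hui (by norm_num)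
    have hj0 : w j ≠ 0 := fun e => by rw [hwj, neg_eq_zero] at e; rw [e] at huj; exact absurd huj (by norm_num)
    have hw0' : ∀ t ∈ s, t ≠ i → t ≠ j → w t = 0 := fun t ht h3 h4 => by
      by_contra hne
      rcases hmem t ht hne with rfl | rfl <;> rcases hmem i hi hi0 with rfl | rfl <;>
        rcases hmem j hj hj0 with rfl | rfl <;> simp_all
    refine ⟨i, j, k, k, u i, u j, v k, v k, hi, hj, hk, hk, hui, huj, hvk, hvk, hu',
      fun f => by rw [hv', hvi], Or.inr fun f => ?_⟩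
    rw [red w i j hi hj hij hw0' f, e1, hwj]
    push_cast
    ring
  · rw [e1, mul_zero, zero_add, mul_eq_zero] at h2
    have hwj : w j = 0 := h2.resolve_left fun e => by rw [e] at huj; exact absurd huj (by norm_num)
    have hk0 : w k ≠ 0 := fun e => by rw [e2] at e; rw [e] at hvk; exact absurd hvk (by norm_num)
    obtain ⟨l, hl, hlk, hl1, hw0'⟩ : ∃ l ∈ s, k ≠ l ∧ w l * w l = 1 ∧ ∀ t ∈ s, t ≠ k → t ≠ l → w t = 0 := by
      rcases hmem k hk hk0 with rfl | rfl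
      · exact ⟨q, hq, hpq, hq1, hw0⟩
      · exact ⟨p, hp, hpq.symm, hp1, fun t ht h3 h4 => hw0 t ht h4 h3⟩
    refine ⟨i, j, k, l, u i, u j, v k, w l, hi, hj, hk, hl, hui, huj, hvk, hl1, hu',
      fun f => by rw [hv', hvi], Or.inl fun f => ?_⟩
    rw [red w k l hk hl hlk hw0' f, e2]

end Comb

section Arith

/-- The arithmetic of the degrees and the values at the involution. -/
theorem arith {A l : ℂ} {r : ℂ} (hr : r ≠ 0) (hA : A ≠ 0) (hA1 : -1 - A ≠ 0) (hA2 : 2 + A ≠ 0)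
    (h1 : 1 + l ^ 2 / A + (-1 - l) ^ 2 / (-1 - A) = 2 * r)
    (h2 : -1 + (-1 - l) ^ 2 / (-1 - A) + (2 + l) ^ 2 / (2 + A) = -(2 / 3) * r) :
    A = 1 ∧ l ≠ 1 := by
  have hp1 : 1 + A ≠ 0 := fun e => hA1 (by linear_combination -e)
  have hp2 : A + 1 ≠ 0 := by rwa [add_comm]
  have e1 : (A - l) ^ 2 = 2 * r * (A * (1 + A)) := by
    field_simp at h1
    linear_combination -h1
  have e2 : 3 * (A - l) ^ 2 = 2 * r * ((1 + A) * (2 + A)) := by
    field_simp at h2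
    linear_combination h2
  have e3 : r * (1 + A) * (4 * (A - 1)) = 0 := by linear_combination (-3 : ℂ) * e1 + e2
  have hA' : A = 1 := by
    rcases mul_eq_zero.1 e3 with h | h
    · exact absurd h (mul_ne_zero hr hp1)
    · exact sub_eq_zero.1 ((mul_eq_zero.1 h).resolve_left (by norm_num))
  refine ⟨hA', fun hl => hr ?_⟩
  rw [hA', hl] at e1
  linear_combination (-1 / 4 : ℂ) * e1

end Arith

end Cfsg.Agent.Spor.PSLFourThree.Wreath
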