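import Cfsg.Agent.Lib.Spor.PSLFourThree.WreathCase.Model
import Cfsg.Agent.Lib.Char.DadeGen
import Cfsg.Agent.Lib.Char.Central

/-!
# Three generalized characters of the group of order 162
-/

set_option autoImplicit false

namespace Cfsg.Agent.Spor.PSLFourThree.Wreath

open Cfsg Cfsg.Agent.Char Mdl
open scoped ComplexConjugate

/-- A primitive cube root of unity. -/
noncomputable def om : ℂ := Complex.exp (2 * Real.pi * Complex.I / 3)

theorem om_prim : IsPrimitiveRoot om 3 := Complex.isPrimitiveRoot_exp 3 (by norm_num)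

theorem om_cube : om ^ 3 = 1 := om_prim.pow_eq_one

theorem om_ne_zero : om ≠ 0 := om_prim.ne_zero (by norm_num)

theorem om_sum : 1 + om + om ^ 2 = 0 := by
  have h := om_prim.geom_sum_eq_zero (by norm_num)
  simpa [Finset.sum_range_succ] using h

theorem conj_om : conj om = -1 - om := by
  rw [← Complex.inv_eq_conj]
  · field_simp [om_ne_zero]
    linear_combination om_sum
  · exact Complex.norm_eq_one_of_pow_eq_one om_cube (by norm_num)

/-- The value of a pair of integers in the ring generated by the cube root of unity. -/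
noncomputable def ev : ℤ × ℤ →+ ℂ where
  toFun p := (p.1 : ℂ) + p.2 * om
  map_zero' := by simp
  map_add' p q := by simp; ring

theorem ev_apply (p : ℤ × ℤ) : ev p = (p.1 : ℂ) + p.2 * om := rfl

/-- The product of a pair with the conjugate of another. -/
def mulc (p q : ℤ × ℤ) : ℤ × ℤ :=
  (p.1 * q.1 - p.1 * q.2 + p.2 * q.2, p.2 * q.1 - p.1 * q.2)

theorem ev_mulc (p q : ℤ × ℤ) : ev (mulc p q) = ev p * conj (ev q) := by
  simp only [ev_apply, mulc, map_add, map_mul, map_intCast, conj_om]
  push_cast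
  linear_combination ((p.2 : ℂ) * q.2) * om_sum

/-- The powers of the cube root as pairs. -/
def wz (r : ZMod 3) : ℤ × ℤ := if r = 0 then (1, 0) else if r = 1 then (0, 1) else (-1, -1)

theorem ev_wz : ∀ r : ZMod 3, ev (wz r) = om ^ r.val := by
  intro r
  fin_cases r
  · show ev (1, 0) = om ^ 0
    simp [ev_apply]
  · show ev (0, 1) = om ^ 1
    simp [ev_apply]
  · show ev (-1, -1) = om ^ 2
    simp only [ev_apply]
    push_cast
    linear_combination -om_sum

theorem wz_mul (r t : ZMod 3) : om ^ (r + t).val = om ^ r.val * om ^ t.val := by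
  rw [← pow_add, ZMod.val_add, ← pow_eq_pow_mod _ om_cube]

/-- The subgroup of order 81. -/
def subS : Subgroup Mdl where
  carrier := {g | g.e = false}
  one_mem' := rfl
  mul_mem' {g h} hg hh := by
    show xor g.e h.e = false
    rw [show g.e = false from hg, show h.e = false from hh]
    rfl
  inv_mem' {g} hg := hg

/-- The subgroup of order 54. -/
def subH : Subgroup Mdl where
  carrier := {g | g.i = 0}
  one_mem' := rfl
  mul_mem' {g h} hg hh := by
    show g.i + sg g.e * h.i = 0
    rw [show g.i = 0 from hg, show h.i = 0 from hh, mul_zero, add_zero]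
  inv_mem' {g} hg := by
    show sg g.e * -g.i = 0
    rw [show g.i = 0 from hg, neg_zero, mul_zero]

instance : DecidablePred (· ∈ subS) := fun g => inferInstanceAs (Decidable (g.e = false))

instance : DecidablePred (· ∈ subH) := fun g => inferInstanceAs (Decidable (g.i = 0))

/-- The linear character given by an additive function. -/
noncomputable def lin {H : Subgroup Mdl} (k : Mdl → ZMod 3) (hk : ∀ g ∈ H, ∀ h ∈ H, k (g * h) = k g + k h) :
    H →* ℂˣ :=
  MonoidHom.toHomUnits
    { toFun := fun g => om ^ (k g).val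
      map_one' := by
        have h := hk 1 H.one_mem 1 H.one_mem
        rw [mul_one] at h
        have h0 : k 1 = 0 := by simpa using h.symm
        show om ^ (k ((1 : H) : Mdl)).val = 1
        rw [OneMemClass.coe_one, h0, ZMod.val_zero, pow_zero]
      map_mul' := fun g h => by
        show om ^ (k ((g * h : H) : Mdl)).val = _
        rw [Subgroup.coe_mul, hk g g.2 h h.2, wz_mul] }

theorem lin_apply {H : Subgroup Mdl} (k : Mdl → ZMod 3) (hk : ∀ g ∈ H, ∀ h ∈ H, k (g * h) = k g + k h) (g : H) :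
    ((lin k hk g : ℂˣ) : ℂ) = om ^ (k g).val := rfl

/-- A function given by its induction sums is a character. -/
theorem isCharacter_of_table (H : Subgroup Mdl) [DecidablePred (· ∈ H)] (k : Mdl → ZMod 3)
    (hk : ∀ g ∈ H, ∀ h ∈ H, k (g * h) = k g + k h) (n : ℕ) (hn : Nat.card H = n) (r : Mdl → ℤ × ℤ)
    (hr : ∀ g : Mdl, (∑ x : Mdl, if x⁻¹ * g * x ∈ H then wz (k (x⁻¹ * g * x)) else 0) = n • r g) :
    IsCharacter Mdl (ev ∘ r) := by
  have e : ev ∘ r = indFun H (fun g => ((lin k hk g : ℂˣ) : ℂ)) := by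
    funext g
    have h := congrArg ev (hr g)
    rw [map_sum, map_nsmul, nsmul_eq_mul] at h
    have hx : ∀ x : Mdl, extendByZero H (fun g : H => ((lin k hk g : ℂˣ) : ℂ)) (x⁻¹ * g * x) =
        ev (if x⁻¹ * g * x ∈ H then wz (k (x⁻¹ * g * x)) else 0) := by
      intro x
      split_ifs with hm
      · rw [extendByZero_mem H _ hm, lin_apply, ev_wz]
      · rw [extendByZero_not_mem H _ hm, map_zero]
    rw [indFun, Finset.sum_congr rfl fun x _ => hx x, h, hn, Function.comp_apply,
      inv_mul_cancel_left₀]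
    rw [← hn]
    exact Nat.cast_ne_zero.mpr Nat.card_pos.ne'
  rw [e]
  exact isCharacter_indFun H (isCharacter_linear _)

/-- A character of degree two. -/
def psi1 (g : Mdl) : ℤ × ℤ := if g.e then 0 else if g.a = 0 then (2, 0) else (-1, 0)

/-- A character of degree two. -/
def psi2 (g : Mdl) : ℤ × ℤ := if g.e then 0 else if g.i = 0 then (2, 0) else (-1, 0)

/-- A character of degree three. -/
def mu (g : Mdl) : ℤ × ℤ :=
  if g.e then wz (g.b + g.i * g.a) else if g.a = 0 ∧ g.i = 0 then 3 • wz g.b else 0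

/-- The sign. -/
def lam (g : Mdl) : ℤ × ℤ := if g.e then (-1, 0) else (1, 0)

/-- The generalized characters. -/
def th1 (g : Mdl) : ℤ × ℤ := (1, 0) + lam g - psi1 g

/-- The generalized characters. -/
def th2 (g : Mdl) : ℤ × ℤ := (1, 0) + lam g - psi2 g

/-- The generalized characters. -/
def gam (g : Mdl) : ℤ × ℤ := mu g - (1, 0) - psi2 g

theorem ka_add : ∀ g ∈ subS, ∀ h ∈ subS, (g * h : Mdl).a = g.a + h.a := by
  intro g hg h _
  show g.a + sg g.e * h.a = g.a + h.a
  rw [show g.e = false from hg]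
  show g.a + 1 * h.a = g.a + h.a
  rw [one_mul]

theorem ki_add : ∀ g ∈ subS, ∀ h ∈ subS, (g * h : Mdl).i = g.i + h.i := by
  intro g hg h _
  show g.i + sg g.e * h.i = g.i + h.i
  rw [show g.e = false from hg]
  show g.i + 1 * h.i = g.i + h.i
  rw [one_mul]

theorem kb_add : ∀ g ∈ subH, ∀ h ∈ subH, (g * h : Mdl).b = g.b + h.b := by
  intro g hg h _
  show g.b + h.b + g.i * (sg g.e * h.a) = g.b + h.b
  rw [show g.i = 0 from hg, zero_mul, add_zero]

theorem card_subS : Nat.card subS = 81 := by
  rw [Nat.card_eq_fintype_card]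
  decide +kernel

theorem card_subH : Nat.card subH = 54 := by
  rw [Nat.card_eq_fintype_card]
  decide +kernel

theorem tab1 : ∀ g : Mdl, (∑ x : Mdl, if x⁻¹ * g * x ∈ subS then wz ((x⁻¹ * g * x).a) else 0) = 81 • psi1 g := by
  decide +kernel

theorem tab2 : ∀ g : Mdl, (∑ x : Mdl, if x⁻¹ * g * x ∈ subS then wz ((x⁻¹ * g * x).i) else 0) = 81 • psi2 g := by
  decide +kernel

theorem tab3 : ∀ g : Mdl, (∑ x : Mdl, if x⁻¹ * g * x ∈ subH then wz ((x⁻¹ * g * x).b) else 0) = 54 • mu g := by
  decide +kernel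

theorem char_psi1 : IsCharacter Mdl (ev ∘ psi1) :=
  isCharacter_of_table subS (fun g => g.a) ka_add 81 card_subS psi1 tab1

theorem char_psi2 : IsCharacter Mdl (ev ∘ psi2) :=
  isCharacter_of_table subS (fun g => g.i) ki_add 81 card_subS psi2 tab2

theorem char_mu : IsCharacter Mdl (ev ∘ mu) :=
  isCharacter_of_table subH (fun g => g.b) kb_add 54 card_subH mu tab3

theorem char_one : IsCharacter Mdl (ev ∘ fun _ : Mdl => ((1, 0) : ℤ × ℤ)) := by
  have e : (ev ∘ fun _ : Mdl => ((1, 0) : ℤ × ℤ)) = fun _ => 1 := by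
    funext g
    simp [ev_apply]
  rw [e]
  exact isCharacter_one

theorem char_lam : IsCharacter Mdl (ev ∘ lam) := by
  let f : Mdl →* ℂˣ :=
    { toFun := fun g => if g.e then -1 else 1
      map_one' := rfl
      map_mul' := fun g h => by
        show (if xor g.e h.e then (-1 : ℂˣ) else 1) = _
        cases g.e <;> cases h.e <;> simp }
  have e : ev ∘ lam = fun g => ((f g : ℂˣ) : ℂ) := by
    funext g
    show ev (lam g) = ((if g.e then (-1 : ℂˣ) else 1 : ℂˣ) : ℂ)
    rw [lam]
    cases g.e <;> simp [ev_apply]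
  rw [e]
  exact isCharacter_linear f

theorem gen_th1 : IsGeneralizedCharacter Mdl (ev ∘ th1) :=
  ⟨_, _, isCharacter_add char_one char_lam, char_psi1, by funext g; simp [th1, map_sub, map_add]⟩

theorem gen_th2 : IsGeneralizedCharacter Mdl (ev ∘ th2) :=
  ⟨_, _, isCharacter_add char_one char_lam, char_psi2, by funext g; simp [th2, map_sub, map_add]⟩

theorem gen_gam : IsGeneralizedCharacter Mdl (ev ∘ gam) :=
  ⟨_, _, char_mu, isCharacter_add char_one char_psi2, by
    funext g; simp [gam, map_sub]; ring⟩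

theorem th1_supp : ∀ g : Mdl, ¬ Ctl g → th1 g = 0 := by decide +kernel

theorem th2_supp : ∀ g : Mdl, ¬ Out g → th2 g = 0 := by decide +kernel

theorem gam_supp : ∀ g : Mdl, ¬ Ctl g → gam g = 0 := by decide +kernel

/-- The inner product of two tables. -/
theorem inner_table (f h : Mdl → ℤ × ℤ) (m : ℤ) (hs : ∑ g : Mdl, mulc (f g) (h g) = (162 * m, 0)) :
    classInner (ev ∘ f) (ev ∘ h) = (m : ℂ) := by
  have e := congrArg ev hs
  rw [map_sum] at e
  rw [classInner, Nat.card_eq_fintype_card, Mdl.card]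
  simp only [Function.comp_apply, ← ev_mulc]
  rw [e, ev_apply]
  push_cast
  ring

/-- The table of the trivial character. -/
def onez : Mdl → ℤ × ℤ := fun _ => (1, 0)

theorem ip_11 : classInner (ev ∘ th1) (ev ∘ th1) = ((3 : ℤ) : ℂ) := inner_table _ _ 3 (by decide +kernel)

theorem ip_22 : classInner (ev ∘ th2) (ev ∘ th2) = ((3 : ℤ) : ℂ) := inner_table _ _ 3 (by decide +kernel)

theorem ip_gg : classInner (ev ∘ gam) (ev ∘ gam) = ((3 : ℤ) : ℂ) := inner_table _ _ 3 (by decide +kernel)

theorem ip_12 : classInner (ev ∘ th1) (ev ∘ th2) = ((2 : ℤ) : ℂ) := inner_table _ _ 2 (by decide +kernel)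

theorem ip_g2 : classInner (ev ∘ gam) (ev ∘ th2) = ((0 : ℤ) : ℂ) := inner_table _ _ 0 (by decide +kernel)

theorem ip_1g : classInner (ev ∘ th1) (ev ∘ gam) = ((-1 : ℤ) : ℂ) := inner_table _ _ (-1) (by decide +kernel)

theorem ip_10 : classInner (ev ∘ th1) (ev ∘ onez) = ((1 : ℤ) : ℂ) := inner_table _ _ 1 (by decide +kernel)

theorem ip_20 : classInner (ev ∘ th2) (ev ∘ onez) = ((1 : ℤ) : ℂ) := inner_table _ _ 1 (by decide +kernel)

theorem ip_g0 : classInner (ev ∘ gam) (ev ∘ onez) = ((-1 : ℤ) : ℂ) := inner_table _ _ (-1) (by decide +kernel)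

/-- The involutions. -/
def invols : Finset Mdl := Finset.univ.filter fun g => g * g = 1 ∧ g ≠ 1

theorem pairs_th1 : ∑ u ∈ invols, ∑ v ∈ invols, th1 (u * v) = (1458, 0) := by decide +kernel

theorem pairs_gam : ∑ u ∈ invols, ∑ v ∈ invols, gam (u * v) = (-486, 0) := by decide +kernel

end Cfsg.Agent.Spor.PSLFourThree.Wreath
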