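import Cfsg.Agent.Lib.Spor.PSLFourThree.WreathCase.Model
import Cfsg.Agent.Lib.Fusion.NPC
import Cfsg.Agent.Lib.Solv.Generation
import Cfsg.Prelude.Def_OddOrderChar

/-!
# The group of order 162 inside a finite group: fusion and centralisers
-/

set_option autoImplicit false
set_option linter.unusedSectionVars false

namespace Cfsg.Agent.Spor.PSLFourThree

open Wreath

universe u

/-- The configuration of a group of order 162 controlling the fusion of the elements of a plane. -/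
structure WreathCfg (X : Type u) [Group X] where
  /-- The abelian part. -/
  a : Multiplicative (Fin 3 → ZMod 3) →* X
  a_inj : Function.Injective a
  /-- The element of order three. -/
  x : X
  /-- The involution. -/
  s : X
  hx3 : x ^ 3 = 1
  hxa : x ∉ a.range
  hs2 : s * s = 1
  x_act : ∀ i j k : ZMod 3, x * a (Multiplicative.ofAdd ![i, j, k]) * x⁻¹ =
    a (Multiplicative.ofAdd ![i, j + i, k + j + 2 * i])
  s_act : ∀ i j k : ZMod 3, s * a (Multiplicative.ofAdd ![i, j, k]) * s =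
    a (Multiplicative.ofAdd ![-i, j, -k])
  s_x : s * x * s = x⁻¹
  hy : ∀ v : Fin 3 → ZMod 3, v 0 = 0 → v ≠ 0 → ∀ g : X,
    g * a (Multiplicative.ofAdd v) * g⁻¹ ∈ a.range ⊔ Subgroup.zpowers x ⊔ Subgroup.zpowers s →
      g ∈ a.range ⊔ Subgroup.zpowers x ⊔ Subgroup.zpowers s

namespace WreathCfg

variable {X : Type u} [Group X] (w : WreathCfg X)

/-- The subgroup of order 162. -/
def M : Subgroup X := w.a.range ⊔ Subgroup.zpowers w.x ⊔ Subgroup.zpowers w.s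

/-- Coordinates in the abelian part. -/
def aa (i j k : ZMod 3) : X := w.a (Multiplicative.ofAdd ![i, j, k])

theorem aa_mul (i j k i' j' k' : ZMod 3) :
    w.aa i j k * w.aa i' j' k' = w.aa (i + i') (j + j') (k + k') := by
  rw [aa, aa, aa, ← map_mul, ← ofAdd_add]
  congr 2
  funext t
  fin_cases t <;> rfl

theorem aa_inj {i j k i' j' k' : ZMod 3} (h : w.aa i j k = w.aa i' j' k') :
    i = i' ∧ j = j' ∧ k = k' := by
  have e : (![i, j, k] : Fin 3 → ZMod 3) = ![i', j', k'] := Multiplicative.ofAdd.injective (w.a_inj h)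
  exact ⟨congrFun e 0, congrFun e 1, congrFun e 2⟩

theorem x_aa (i j k : ZMod 3) : w.x * w.aa i j k = w.aa i (j + i) (k + j + 2 * i) * w.x :=
  mul_inv_eq_iff_eq_mul.mp (w.x_act i j k)

theorem s_aa (i j k : ZMod 3) : w.s * w.aa i j k = w.aa (-i) j (-k) * w.s := by
  have h := w.s_act i j k
  calc w.s * w.aa i j k = w.s * w.aa i j k * w.s * w.s := by rw [mul_assoc _ w.s w.s, w.hs2, mul_one]
    _ = _ := by rw [aa, h]; rfl

theorem x_aa_pow : ∀ (n : ℕ) (i j k : ZMod 3), w.x ^ n * w.aa i j k =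
    w.aa i (j + n * i) (k + n * j + 2 * (n * n) * i) * w.x ^ n := by
  intro n
  induction n with
  | zero => intro i j k; simp
  | succ n ih =>
    intro i j k
    rw [pow_succ', mul_assoc, ih, ← mul_assoc, x_aa, mul_assoc]
    congr 1
    rw [show j + (n : ZMod 3) * i + i = j + ((n + 1 : ℕ) : ZMod 3) * i by push_cast; ring]
    congr 1
    push_cast
    linear_combination (-((n : ZMod 3) * i)) * Mdl.three

theorem s_x_pow : ∀ n : ℕ, w.s * w.x ^ n = w.x ^ (2 * n) * w.s := by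
  have h1 : w.s * w.x = w.x ^ 2 * w.s := by
    have e : w.x⁻¹ = w.x ^ 2 := inv_eq_of_mul_eq_one_right (by rw [← pow_succ']; exact w.hx3)
    calc w.s * w.x = w.s * w.x * w.s * w.s := by rw [mul_assoc _ w.s w.s, w.hs2, mul_one]
      _ = _ := by rw [w.s_x, e]
  intro n
  induction n with
  | zero => simp
  | succ n ih => rw [pow_succ, ← mul_assoc, ih, mul_assoc, h1, ← mul_assoc, ← pow_add, mul_add, mul_one]

theorem x_pow_val (n : ℕ) : w.x ^ n = w.x ^ (n : ZMod 3).val := by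
  rw [ZMod.val_natCast]
  exact pow_eq_pow_mod n w.hx3

/-- The power of `x`. -/
def xp (i : ZMod 3) : X := w.x ^ i.val

/-- The power of `s`. -/
def sp (e : Bool) : X := if e then w.s else 1

theorem xp_mul (i j : ZMod 3) : w.xp i * w.xp j = w.xp (i + j) := by
  rw [xp, xp, xp, ← pow_add, x_pow_val, Nat.cast_add, ZMod.natCast_zmod_val, ZMod.natCast_zmod_val]

theorem xp_aa (t i j k : ZMod 3) :
    w.xp t * w.aa i j k = w.aa i (j + t * i) (k + t * j + 2 * (t * t) * i) * w.xp t := by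
  have h := w.x_aa_pow t.val i j k
  rwa [ZMod.natCast_zmod_val] at h

theorem sp_aa (e : Bool) (i j k : ZMod 3) :
    w.sp e * w.aa i j k = w.aa (Mdl.sg e * i) j (Mdl.sg e * k) * w.sp e := by
  cases e
  · simp [sp, Mdl.sg]
  · have e2 : ∀ r : ZMod 3, (2 : ZMod 3) * r = -r := by decide
    simp only [sp, Mdl.sg, if_true, e2]
    exact w.s_aa i j k

theorem sp_xp (e : Bool) (i : ZMod 3) : w.sp e * w.xp i = w.xp (Mdl.sg e * i) * w.sp e := by
  cases e
  · simp [sp, Mdl.sg]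
  · simp only [sp, Mdl.sg, if_true, xp]
    rw [s_x_pow, x_pow_val, Nat.cast_mul, ZMod.natCast_zmod_val]
    rfl

theorem sp_mul (e f : Bool) : w.sp e * w.sp f = w.sp (xor e f) := by
  cases e <;> cases f <;> simp [sp, w.hs2]

/-- The homomorphism from the model. -/
def φ : Mdl →* X where
  toFun g := w.aa g.a g.b g.c * w.xp g.i * w.sp g.e
  map_one' := by
    show w.aa 0 0 0 * w.xp 0 * w.sp false = 1
    have h : w.aa 0 0 0 = 1 := by
      have e := w.aa_mul 0 0 0 0 0 0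
      rw [add_zero] at e
      simpa using e
    simp [h, xp, sp]
  map_mul' g h := by
    show w.aa (g.a + Mdl.sg g.e * h.a) (g.b + h.b + g.i * (Mdl.sg g.e * h.a))
        (g.c + Mdl.sg g.e * h.c + g.i * h.b + 2 * (g.i * g.i) * (Mdl.sg g.e * h.a)) *
        w.xp (g.i + Mdl.sg g.e * h.i) * w.sp (xor g.e h.e) = _
    calc _ = w.aa g.a g.b g.c * (w.aa (Mdl.sg g.e * h.a) (h.b + g.i * (Mdl.sg g.e * h.a))
          (Mdl.sg g.e * h.c + g.i * h.b + 2 * (g.i * g.i) * (Mdl.sg g.e * h.a)) * w.xp g.i) *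
          w.xp (Mdl.sg g.e * h.i) * (w.sp g.e * w.sp h.e) := by
          rw [← mul_assoc (w.aa g.a g.b g.c), aa_mul, mul_assoc (w.aa _ _ _) (w.xp g.i), xp_mul, sp_mul]
          simp only [add_assoc]
      _ = w.aa g.a g.b g.c * w.xp g.i *
          (w.aa (Mdl.sg g.e * h.a) h.b (Mdl.sg g.e * h.c) * (w.xp (Mdl.sg g.e * h.i) * w.sp g.e)) * w.sp h.e := by
          rw [← xp_aa]; simp only [mul_assoc]
      _ = _ := by
          rw [← sp_xp, ← mul_assoc (w.aa (Mdl.sg g.e * h.a) h.b (Mdl.sg g.e * h.c)), ← sp_aa]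
          simp only [mul_assoc]

theorem φ_A (i j k : ZMod 3) : w.φ (Mdl.A i j k) = w.aa i j k := by
  show w.aa i j k * w.xp 0 * w.sp false = _
  simp [xp, sp]

theorem aa_eta (v : Fin 3 → ZMod 3) : w.aa (v 0) (v 1) (v 2) = w.a (Multiplicative.ofAdd v) := by
  rw [aa]
  congr 2
  funext t
  fin_cases t <;> rfl

theorem range_φ : w.φ.range = w.M := by
  have hM1 : w.a.range ≤ w.M := le_sup_left.trans le_sup_left
  have hM2 : Subgroup.zpowers w.x ≤ w.M := le_sup_right.trans le_sup_left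
  have hM3 : Subgroup.zpowers w.s ≤ w.M := le_sup_right
  refine le_antisymm ?_ (sup_le (sup_le ?_ ?_) ?_)
  · rintro _ ⟨g, rfl⟩
    refine mul_mem (mul_mem (hM1 ⟨_, rfl⟩) (hM2 (pow_mem (Subgroup.mem_zpowers _) _))) ?_
    cases g.e
    · exact one_mem _
    · exact hM3 (Subgroup.mem_zpowers _)
  · rintro _ ⟨v, rfl⟩
    exact ⟨Mdl.A (Multiplicative.toAdd v 0) (Multiplicative.toAdd v 1) (Multiplicative.toAdd v 2), by
      rw [φ_A, aa_eta]; rfl⟩
  · rw [Subgroup.zpowers_le]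
    refine ⟨Mdl.X, ?_⟩
    show w.aa 0 0 0 * w.xp 1 * w.sp false = w.x
    rw [show w.aa 0 0 0 = w.φ (Mdl.A 0 0 0) from (w.φ_A 0 0 0).symm, show Mdl.A 0 0 0 = 1 from rfl, map_one]
    simp [xp, sp, ZMod.val_one]
  · rw [Subgroup.zpowers_le]
    refine ⟨Mdl.S, ?_⟩
    show w.aa 0 0 0 * w.xp 0 * w.sp true = w.s
    rw [show w.aa 0 0 0 = w.φ (Mdl.A 0 0 0) from (w.φ_A 0 0 0).symm, show Mdl.A 0 0 0 = 1 from rfl, map_one]
    simp [xp, sp]

theorem self_cent : ∀ g : Mdl, g ≠ 1 → g.e = true ∨ g.i ≠ 0 →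
    ∃ i j k : ZMod 3, (g * Mdl.A i j k * g⁻¹).e = false ∧ (g * Mdl.A i j k * g⁻¹).i = 0 ∧
      g * Mdl.A i j k * g⁻¹ ≠ Mdl.A i j k := by decide +kernel

theorem φ_inj : Function.Injective w.φ := by
  refine (injective_iff_map_eq_one w.φ).2 fun g hg => ?_
  by_contra h1
  by_cases h : g.e = true ∨ g.i ≠ 0
  · obtain ⟨i, j, k, he, hi, hne⟩ := self_cent g h1 h
    refine hne ?_
    have e : w.φ (g * Mdl.A i j k * g⁻¹) = w.φ (Mdl.A i j k) := by
      rw [map_mul, map_mul, map_inv, hg, one_mul, inv_one, mul_one]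
    rw [Mdl.a_part _ he hi, φ_A, φ_A] at e
    obtain ⟨e1, e2, e3⟩ := w.aa_inj e
    rw [Mdl.a_part _ he hi, e1, e2, e3]
  · push Not at h
    have he : g.e = false := by simpa using h.1
    rw [Mdl.a_part g he h.2, φ_A, ← w.φ.map_one, show (1 : Mdl) = Mdl.A 0 0 0 from rfl, φ_A] at hg
    obtain ⟨e1, e2, e3⟩ := w.aa_inj hg
    exact h1 (by rw [Mdl.a_part g he h.2, e1, e2, e3]; rfl)

theorem φ_mem (g : Mdl) : w.φ g ∈ w.M := w.range_φ ▸ ⟨g, rfl⟩

theorem exists_φ {z : X} (hz : z ∈ w.M) : ∃ g : Mdl, w.φ g = z := by rwa [← w.range_φ] at hz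

/-- The hypothesis on the plane. -/
theorem plane_ctl {g : Mdl} (he : g.e = false) (ha : g.a = 0) (hi : g.i = 0) (hne : g ≠ 1) {z : X}
    (hz : z * w.φ g * z⁻¹ ∈ w.M) : z ∈ w.M := by
  have hg := Mdl.a_part g he hi
  refine w.hy ![g.a, g.b, g.c] ha ?_ z ?_
  · intro h0
    refine hne ?_
    rw [hg, show g.a = 0 from congrFun h0 0, show g.b = 0 from congrFun h0 1, show g.c = 0 from congrFun h0 2]
    rfl
  · rw [hg, φ_A] at hz
    exact hz

theorem y_ctl {z : X} (hz : z * w.φ Mdl.Y * z⁻¹ ∈ w.M) : z ∈ w.M :=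
  w.plane_ctl rfl rfl rfl (by decide) hz

/-- The normal complement in the centraliser of an element. -/
def Hd (a : X) : Subgroup X := Subgroup.closure {u | u * a = a * u ∧ (orderOf u).Coprime 3}

theorem Hd_le (a : X) : Hd a ≤ Subgroup.centralizer ({a} : Set X) :=
  (Subgroup.closure_le _).2 fun _ hu => Subgroup.mem_centralizer_singleton_iff.2 hu.1

theorem Hd_conj {a c u : X} (hc : c ∈ Subgroup.centralizer ({a} : Set X)) (hu : u ∈ Hd a) :
    c * u * c⁻¹ ∈ Hd a := by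
  have hle : (Hd a).map (MulAut.conj c).toMonoidHom ≤ Hd a := by
    rw [Hd, MonoidHom.map_closure, Subgroup.closure_le]
    rintro _ ⟨v, ⟨hv, ho⟩, rfl⟩
    refine Subgroup.subset_closure ⟨?_, ?_⟩
    · have hc' := Subgroup.mem_centralizer_singleton_iff.1 hc
      show c * v * c⁻¹ * a = a * (c * v * c⁻¹)
      have h1 : c⁻¹ * a = a * c⁻¹ := inv_mul_eq_iff_eq_mul.2 (by rw [← mul_assoc, hc', mul_inv_cancel_right])
      calc c * v * c⁻¹ * a = c * (v * a) * c⁻¹ := by rw [mul_assoc, h1]; group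
        _ = (c * a) * v * c⁻¹ := by rw [hv]; group
        _ = _ := by rw [hc']; group
    · rwa [orderOf_injective (MulAut.conj c).toMonoidHom (MulAut.conj c).injective]
  exact hle ⟨u, hu, rfl⟩

theorem Hd_eq_map (a : X) : Hd a =
    (Cfsg.pResidual 3 (Subgroup.centralizer ({a} : Set X))).map
      (Subgroup.centralizer ({a} : Set X)).subtype := by
  rw [Hd, Cfsg.pResidual, MonoidHom.map_closure]
  congr 1
  ext u
  constructor
  · rintro ⟨h1, h2⟩
    exact ⟨⟨u, Subgroup.mem_centralizer_singleton_iff.2 h1⟩, by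
      show (orderOf _).Coprime 3
      rwa [Subgroup.orderOf_mk], rfl⟩
  · rintro ⟨⟨v, hv⟩, ho, rfl⟩
    refine ⟨Subgroup.mem_centralizer_singleton_iff.1 hv, ?_⟩
    have : (orderOf (⟨v, hv⟩ : Subgroup.centralizer ({a} : Set X))).Coprime 3 := ho
    rwa [Subgroup.orderOf_mk] at this

/-- The elements of the subgroup of order 81 outside the plane. -/
def Gen (g : Mdl) : Prop := g.e = false ∧ (g.a ≠ 0 ∨ g.i ≠ 0)

theorem cent_mem {g h : Mdl} (hh : w.φ h ∈ Subgroup.centralizer ({w.φ g} : Set X)) : g * h = h * g := by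
  refine w.φ_inj ?_
  rw [map_mul, map_mul]
  exact (Subgroup.mem_centralizer_singleton_iff.1 hh).symm

theorem isPGroup_cent {g : Mdl} (hg : Gen g) :
    IsPGroup 3 ↥(w.M ⊓ Subgroup.centralizer ({w.φ g} : Set X)) := by
  intro z
  obtain ⟨h, hh⟩ := w.exists_φ z.2.1
  refine ⟨2, Subtype.ext ?_⟩
  show (z : X) ^ 3 ^ 2 = 1
  rw [← hh, ← map_pow, show (3 : ℕ) ^ 2 = 9 from rfl, Mdl.pow_nine h (Mdl.cent_e g hg.1 hg.2 h (w.cent_mem (hh ▸ z.2.2))), map_one]

theorem y_mem_cent {g : Mdl} (hg : Gen g) :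
    w.φ Mdl.Y ∈ w.M ⊓ Subgroup.centralizer ({w.φ g} : Set X) :=
  ⟨w.φ_mem _, Subgroup.mem_centralizer_singleton_iff.2 (by rw [← map_mul, ← map_mul, Mdl.y_central g hg.1])⟩

theorem normalizer_le {W : Subgroup X} (hW : W ≤ w.M) (hy : w.φ Mdl.Y ∈ W) {z : X}
    (hz : ∀ v ∈ W, z * v * z⁻¹ ∈ W) : z ∈ w.M :=
  w.y_ctl (hW (hz _ hy))

variable [Finite X]

theorem eq_of_pgroup {W : Subgroup X} (hW : W ≤ w.M) (hy : w.φ Mdl.Y ∈ W) {P : Subgroup X}
    (hP : IsPGroup 3 P) (hWP : W ≤ P) (hPM : P ⊓ w.M ≤ W) : P = W := by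
  by_contra hne
  haveI : Fact (Nat.Prime 3) := ⟨Nat.prime_three⟩
  haveI : Group.IsNilpotent P := hP.isNilpotent
  have hlt : W.subgroupOf P < ⊤ := lt_top_iff_ne_top.2 fun h =>
    hne (le_antisymm (Subgroup.subgroupOf_eq_top.1 h) hWP)
  obtain ⟨g, hg, hgW⟩ := SetLike.exists_of_lt ((Group.normalizerCondition_of_isNilpotent (G := P)) _ hlt)
  refine hgW (hPM ⟨g.2, w.normalizer_le hW hy fun v hv => ?_⟩)
  exact (Subgroup.mem_normalizer_iff.1 hg ⟨v, hWP hv⟩).1 hv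

theorem hnpc_cent {g : Mdl} (hg : Gen g) :
    ∃ P : Sylow 3 ↥(Subgroup.centralizer ({w.φ g} : Set X)),
      (P : Subgroup _).map (Subgroup.centralizer ({w.φ g} : Set X)).subtype =
        w.M ⊓ Subgroup.centralizer ({w.φ g} : Set X) ∧
      Cfsg.HasNormalPComplement 3 ↥(Subgroup.centralizer ({w.φ g} : Set X)) := by
  haveI : Fact (Nat.Prime 3) := ⟨Nat.prime_three⟩
  set C := Subgroup.centralizer ({w.φ g} : Set X)
  set W := w.M ⊓ C with hWdef
  have hWp : IsPGroup 3 (W.subgroupOf C) :=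
    (w.isPGroup_cent hg).of_equiv (Subgroup.subgroupOfEquivOfLe inf_le_right).symm
  obtain ⟨P, hP⟩ := hWp.exists_le_sylow
  have hPe : (P : Subgroup C).map C.subtype = W := by
    refine w.eq_of_pgroup inf_le_left (w.y_mem_cent hg) (P.2.map _) ?_ ?_
    · intro v hv
      exact ⟨⟨v, hv.2⟩, hP hv, rfl⟩
    · rintro _ ⟨⟨v, hv, rfl⟩, hvM⟩
      exact ⟨hvM, v.2⟩
  refine ⟨P, hPe, Fusion.hnpc_of_normalizer_le_centralizer P fun z hz => ?_⟩
  have hmem : ∀ v : C, v ∈ (P : Subgroup C) → (v : X) ∈ W := fun v hv => hPe ▸ ⟨v, hv, rfl⟩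
  have hzM : (z : X) ∈ w.M := by
    refine w.normalizer_le inf_le_left (w.y_mem_cent hg) fun v hv => ?_
    have hv' : (⟨v, hv.2⟩ : C) ∈ (P : Subgroup C) := hP hv
    exact hmem _ ((Subgroup.mem_normalizer_iff.1 hz _).1 hv')
  rw [Subgroup.mem_centralizer_iff]
  intro v hv
  obtain ⟨h, hh⟩ := w.exists_φ hzM
  obtain ⟨k, hk⟩ := w.exists_φ (hmem v hv).1
  refine Subtype.ext ?_
  show (v : X) * z = z * v
  rw [← hh, ← hk, ← map_mul, ← map_mul,
    Mdl.cent_comm g hg.1 hg.2 k (w.cent_mem (hk ▸ v.2)) h (w.cent_mem (hh ▸ z.2))]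

theorem card_Hd {g : Mdl} (hg : Gen g) : (Nat.card (Hd (w.φ g))).Coprime 3 := by
  haveI : Fact (Nat.Prime 3) := ⟨Nat.prime_three⟩
  obtain ⟨P, -, h⟩ := w.hnpc_cent hg
  rw [Hd_eq_map, Subgroup.card_map_of_injective (Subgroup.subtype_injective _)]
  exact Fusion.hnpc_iff.1 h

theorem Hd_inf {g : Mdl} (hg : Gen g) :
    Hd (w.φ g) ⊓ (w.M ⊓ Subgroup.centralizer ({w.φ g} : Set X)) = ⊥ :=
  haveI : Fact (Nat.Prime 3) := ⟨Nat.prime_three⟩
  Fusion.coprime_inf_pGroup (w.card_Hd hg) (w.isPGroup_cent hg)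

theorem Hd_sup {g : Mdl} (hg : Gen g) :
    Hd (w.φ g) ⊔ (w.M ⊓ Subgroup.centralizer ({w.φ g} : Set X)) =
      Subgroup.centralizer ({w.φ g} : Set X) := by
  haveI : Fact (Nat.Prime 3) := ⟨Nat.prime_three⟩
  obtain ⟨P, hP, -⟩ := w.hnpc_cent hg
  rw [Hd_eq_map, ← hP, ← Subgroup.map_sup, Fusion.pResidual_sup_sylow P, ← MonoidHom.range_eq_map,
    Subgroup.range_subtype]

/-- The plane. -/
def plane : Subgroup Mdl where
  carrier := {g | g.e = false ∧ g.a = 0 ∧ g.i = 0}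
  one_mem' := ⟨rfl, rfl, rfl⟩
  mul_mem' {g h} := by
    rintro ⟨a1, a2, a3⟩ ⟨b1, b2, b3⟩
    refine ⟨?_, ?_, ?_⟩
    · show xor g.e h.e = false
      rw [a1, b1]; rfl
    · show g.a + Mdl.sg g.e * h.a = 0
      rw [a2, b2, mul_zero, add_zero]
    · show g.i + Mdl.sg g.e * h.i = 0
      rw [a3, b3, mul_zero, add_zero]
  inv_mem' {g} := by
    rintro ⟨a1, a2, a3⟩
    exact ⟨a1, by show Mdl.sg g.e * -g.a = 0; rw [a2, neg_zero, mul_zero],
      by show Mdl.sg g.e * -g.i = 0; rw [a3, neg_zero, mul_zero]⟩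

instance : DecidablePred (· ∈ plane) := fun g =>
  inferInstanceAs (Decidable (g.e = false ∧ g.a = 0 ∧ g.i = 0))

theorem plane_facts : (∀ g ∈ plane, g ^ 3 = 1) ∧ (∀ g ∈ plane, ∀ h ∈ plane, g * h = h * g) ∧
    Fintype.card plane = 9 := by decide +kernel

theorem plane_a : ∀ g ∈ plane, ∀ h : Mdl, h.e = false → h.i = 0 → g * h = h * g := by decide +kernel

theorem cent_le_A {g : Mdl} (he : g.e = false) (hi : g.i = 0) (ha : g.a ≠ 0) :
    Subgroup.centralizer ({w.φ g} : Set X) ≤ w.M := by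
  haveI : Fact (Nat.Prime 3) := ⟨Nat.prime_three⟩
  have hg : Gen g := ⟨he, Or.inl ha⟩
  set E : Subgroup X := plane.map w.φ with hE
  set N := Hd (w.φ g)
  obtain ⟨h3, hcomm, h9⟩ := plane_facts
  have hEcard : Nat.card E = 9 := by
    rw [hE, Subgroup.card_map_of_injective w.φ_inj, Nat.card_eq_fintype_card, h9]
  have hEc : IsMulCommutative E := ⟨⟨fun p q => by
    obtain ⟨u, hu, hu'⟩ := p.2
    obtain ⟨v, hv, hv'⟩ := q.2
    refine Subtype.ext ?_
    show (p : X) * q = q * p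
    rw [← hu', ← hv', ← map_mul, ← map_mul, hcomm u hu v hv]⟩⟩
  have hEC : E ≤ Subgroup.centralizer ({w.φ g} : Set X) := by
    rintro _ ⟨u, hu, rfl⟩
    exact Subgroup.mem_centralizer_singleton_iff.2 (by rw [← map_mul, ← map_mul, plane_a u hu g he hi])
  have hEN : E ≤ Subgroup.normalizer (N : Set X) := fun c hc u =>
    ⟨fun hu => Hd_conj (hEC hc) hu, fun hu => by
      have := Hd_conj (inv_mem (hEC hc)) hu
      rwa [show c⁻¹ * (c * u * c⁻¹) * c⁻¹⁻¹ = u by group] at this⟩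
  have hco : (Nat.card E).Coprime (Nat.card N) := by
    rw [hEcard, show (9 : ℕ) = 3 ^ 2 by norm_num]
    exact ((w.card_Hd hg).pow_right 2).symm
  have hN : N = ⊥ := by
    rw [← Solv.gen_eq E N hEc hEN hco, eq_bot_iff]
    refine iSup₂_le fun B hB => ?_
    obtain ⟨hBE, e, heE, hgen⟩ := hB
    have hB1 : ∃ b ∈ B, b ≠ 1 := by
      by_contra hne
      push Not at hne
      rw [(Subgroup.eq_bot_iff_forall B).2 hne, bot_sup_eq] at hgen
      obtain ⟨u, hu, rfl⟩ := heE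
      have h1 : orderOf (w.φ u) ∣ 3 := orderOf_dvd_of_pow_eq_one (by rw [← map_pow, h3 u hu, map_one])
      rw [← Nat.card_zpowers, hgen, hEcard] at h1
      exact absurd (Nat.le_of_dvd (by norm_num) h1) (by norm_num)
    obtain ⟨b, hb, hb1⟩ := hB1
    obtain ⟨u, ⟨hue, hua, hui⟩, rfl⟩ := hBE hb
    intro z hz
    rw [← w.Hd_inf hg]
    refine ⟨hz.1, w.plane_ctl hue hua hui (fun h => hb1 (by rw [h, map_one])) ?_, Hd_le _ hz.1⟩
    have hc := Subgroup.mem_centralizer_iff.1 hz.2 _ hb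
    rw [← hc, mul_inv_cancel_right]
    exact w.φ_mem _
  intro z hz
  rw [← w.Hd_sup hg, show Hd (w.φ g) = ⊥ from hN, bot_sup_eq] at hz
  exact hz.1

/-- The conjugators of the controlled elements. -/
theorem ctl_conj {g : Mdl} (hg : Mdl.Ctl g) {z : X} (hz : z * w.φ g * z⁻¹ ∈ w.M) : z ∈ w.M := by
  rcases hg with ⟨he, hai⟩ | ⟨he, hne⟩
  · by_cases ha : g.a = 0
    · obtain ⟨hi, hne⟩ := hai.resolve_left (not_not_intro ha)
      exact w.plane_ctl he ha hi hne hz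
    by_cases hi : g.i = 0
    · obtain ⟨h, hh⟩ := w.exists_φ hz
      have hh9 : h ^ 3 ^ 2 = 1 := w.φ_inj (by
        rw [map_pow, hh, conj_pow, show (3 : ℕ) ^ 2 = 9 from rfl, ← map_pow, Mdl.pow_nine g he, map_one, mul_one, mul_inv_cancel])
      have hY := Mdl.y_central h (Mdl.e_of_pow_three hh9)
      have hc : z⁻¹ * w.φ Mdl.Y * z ∈ Subgroup.centralizer ({w.φ g} : Set X) := by
        rw [Subgroup.mem_centralizer_singleton_iff]
        have e := congrArg w.φ hY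
        rw [map_mul, map_mul, hh] at e
        calc z⁻¹ * w.φ Mdl.Y * z * w.φ g = z⁻¹ * (w.φ Mdl.Y * (z * w.φ g * z⁻¹)) * z := by group
          _ = _ := by rw [← e]; group
      have := w.y_ctl (z := z⁻¹) (by rw [inv_inv]; exact w.cent_le_A he hi ha hc)
      exact inv_mem_iff.1 this
    · obtain ⟨h1, h2, h3, h4⟩ := Mdl.cube_of_nine g he ha hi
      refine w.plane_ctl h1 h2 h3 h4 ?_
      have := mul_mem (mul_mem hz hz) hz
      rw [map_mul, map_mul]
      convert this using 1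
      group
  · obtain ⟨h1, h2, h3⟩ := Mdl.sq_of_e g he
    refine w.plane_ctl h1 h2 h3 hne ?_
    have := mul_mem hz hz
    rw [map_mul]
    convert this using 1
    group

/-- The support of the Dade map. -/
def D : Set X := w.φ '' {g | Mdl.Out g}

theorem gen_of_out {g : Mdl} (hg : Mdl.Out g) : Gen g := ⟨hg.1, Or.inr hg.2⟩

theorem ctl_of_out {g : Mdl} (hg : Mdl.Out g) (ha : g.a ≠ 0) : Mdl.Ctl g := Or.inl ⟨hg.1, Or.inl ha⟩

theorem dade : Cfsg.DadeHypothesis w.D w.M Hd := by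
  haveI : Fact (Nat.Prime 3) := ⟨Nat.prime_three⟩
  refine ⟨?_, ?_, ?_, ?_, fun a _ => Hd_le a, fun a _ c hc u hu => Hd_conj hc hu, ?_, ?_, ?_⟩
  · rintro ⟨g, hg, h⟩
    exact Mdl.out_ne_one g hg (w.φ_inj (h.trans w.φ.map_one.symm))
  · rintro _ ⟨g, -, rfl⟩
    exact w.φ_mem g
  · rintro z hz _ ⟨g, hg, rfl⟩
    obtain ⟨h, rfl⟩ := w.exists_φ hz
    exact ⟨h * g * h⁻¹, Mdl.out_conj g h hg, by simp⟩
  · rintro _ ⟨g, hg, rfl⟩ z ⟨h, hh, hhe⟩
    by_cases ha : g.a = 0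
    · by_cases hha : h.a = 0
      · obtain ⟨p, hp⟩ := Mdl.xcl_conj g hg.1 hg.2 ha
        obtain ⟨q, hq⟩ := Mdl.xcl_conj h hh.1 hh.2 hha
        refine ⟨w.φ (q * p⁻¹), w.φ_mem _, ?_⟩
        rw [← hhe, ← map_inv, ← map_mul, ← map_mul]
        congr 1
        rw [← hp, ← hq]
        group
      · refine ⟨z, inv_mem_iff.1 (w.ctl_conj (ctl_of_out hh hha) ?_), rfl⟩
        rw [hhe]
        have : z⁻¹ * (z * w.φ g * z⁻¹) * z⁻¹⁻¹ = w.φ g := by group
        rw [this]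
        exact w.φ_mem g
    · exact ⟨z, w.ctl_conj (ctl_of_out hg ha) (hhe ▸ w.φ_mem h), rfl⟩
  · rintro _ ⟨g, hg, rfl⟩
    exact w.Hd_inf (gen_of_out hg)
  · rintro _ ⟨g, hg, rfl⟩
    exact w.Hd_sup (gen_of_out hg)
  · rintro _ ⟨g, hg, rfl⟩ _ ⟨h, hh, rfl⟩
    obtain ⟨n, hn⟩ := IsPGroup.iff_card.1 (w.isPGroup_cent (gen_of_out hh))
    rw [hn]
    exact (w.card_Hd (gen_of_out hg)).pow_right n

end WreathCfg

end Cfsg.Agent.Spor.PSLFourThree
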