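import Cfsg.Agent.Lib.Spor.PSLFourThree.WreathCase.Local
import Cfsg.Agent.Lib.Spor.PSLFourThree.WreathCase.Chars
import Cfsg.Agent.Lib.Char.Convolution
import Cfsg.Agent.Lib.Char.Induction

/-!
# The lifted characters and the count of pairs of involutions
-/

set_option autoImplicit false
set_option linter.unusedSectionVars false
set_option linter.style.haveILetI false

namespace Cfsg.Agent.Spor.PSLFourThree

open Cfsg Cfsg.Agent.Char Wreath
open scoped ComplexConjugate

universe u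

theorem classFun_of_gen {H : Type u} [Group H] [Finite H] {F : H → ℂ} (hF : IsGeneralizedCharacter H F) :
    IsClassFunction H F := by
  obtain ⟨a, b, ha, hb, rfl⟩ := hF
  exact fun g k => by
    simp only [Pi.sub_apply, isClassFunction_character ha g k, isClassFunction_character hb g k]

/-- The integral coefficients of a generalized character. -/
theorem exists_coeff {H : Type u} [Group H] [Fintype H] {F : H → ℂ} (hF : IsGeneralizedCharacter H F) :
    ∃ z : IrrCharacter H → ℤ, (∀ g, F g = ∑ χ : IrrCharacter H, (z χ : ℂ) * (χ : H → ℂ) g) ∧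
      ∀ χ : IrrCharacter H, classInner F (χ : H → ℂ) = z χ := by
  have h : ∀ χ : IrrCharacter H, ∃ z : ℤ, classInner F (χ : H → ℂ) = z := fun χ => by
    obtain ⟨a, b, ha, hb, rfl⟩ := hF
    obtain ⟨m, hm⟩ := classInner_natCast ha (irr_isCharacter χ.2)
    obtain ⟨n, hn⟩ := classInner_natCast hb (irr_isCharacter χ.2)
    exact ⟨(m : ℤ) - n, by rw [classInner_sub_left, hm, hn]; push_cast; rfl⟩
  choose z hz using h
  refine ⟨z, fun g => ?_, hz⟩
  conv_lhs => rw [classFun_expansion (classFun_of_gen hF)]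
  rw [Finset.sum_apply]
  exact Finset.sum_congr rfl fun χ _ => by rw [Pi.smul_apply, smul_eq_mul, hz]

theorem classInner_coeff {H : Type u} [Group H] [Fintype H] {F F' : H → ℂ} {z z' : IrrCharacter H → ℤ}
    (hz : ∀ g, F g = ∑ χ : IrrCharacter H, (z χ : ℂ) * (χ : H → ℂ) g)
    (hz' : ∀ χ : IrrCharacter H, classInner F' (χ : H → ℂ) = z' χ) :
    classInner F F' = ((∑ χ : IrrCharacter H, z χ * z' χ : ℤ) : ℂ) := by
  have e : F = ∑ χ : IrrCharacter H, (z χ : ℂ) • (χ : H → ℂ) := by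
    funext g
    rw [hz, Finset.sum_apply]
    rfl
  rw [e, classInner_sum_left, Int.cast_sum]
  refine Finset.sum_congr rfl fun χ _ => ?_
  rw [classInner_smul_left, ← classInner_symm, hz', map_intCast, Int.cast_mul]

namespace WreathCfg

variable {X : Type u} [Group X] [Fintype X] (w : WreathCfg X)

/-- The model as the subgroup. -/
noncomputable def eM : Mdl ≃* ↥w.M := (MonoidHom.ofInjective w.φ_inj).trans (MulEquiv.subgroupCongr w.range_φ)

theorem eM_coe (g : Mdl) : (w.eM g : X) = w.φ g := rfl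

/-- A table as a function on the subgroup. -/
noncomputable def tr (t : Mdl → ℤ × ℤ) : ↥w.M → ℂ := fun m => ev (t (w.eM.symm m))

theorem tr_eM (t : Mdl → ℤ × ℤ) (g : Mdl) : w.tr t (w.eM g) = ev (t g) := by
  rw [tr, MulEquiv.symm_apply_apply]

theorem tr_gen {t : Mdl → ℤ × ℤ} (h : IsGeneralizedCharacter Mdl (ev ∘ t)) :
    IsGeneralizedCharacter ↥w.M (w.tr t) := by
  obtain ⟨a, b, ha, hb, e⟩ := h
  refine ⟨_, _, isCharacter_comp w.eM.symm.toMonoidHom ha, isCharacter_comp w.eM.symm.toMonoidHom hb, ?_⟩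
  funext m
  exact congrFun e (w.eM.symm m)

theorem classInner_tr [Fintype ↥w.M] (t t' : Mdl → ℤ × ℤ) :
    classInner (w.tr t) (w.tr t') = classInner (ev ∘ t) (ev ∘ t') := by
  rw [classInner, classInner, ← Nat.card_congr w.eM.toEquiv]
  congr 1
  exact Fintype.sum_equiv w.eM.symm.toEquiv _ _ fun m => rfl

/-- The lift by induction. -/
noncomputable def lift (t : Mdl → ℤ × ℤ) : X → ℂ := indFun w.M (w.tr t)

theorem lift_gen {t : Mdl → ℤ × ℤ} (h : IsGeneralizedCharacter Mdl (ev ∘ t)) :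
    IsGeneralizedCharacter X (w.lift t) := by
  haveI := Fintype.ofFinite ↥w.M
  obtain ⟨a, b, ha, hb, e⟩ := w.tr_gen h
  exact ⟨_, _, isCharacter_indFun _ ha, isCharacter_indFun _ hb, by rw [lift, e, indFun_sub]⟩

theorem lift_ctl {t : Mdl → ℤ × ℤ} (h : IsGeneralizedCharacter Mdl (ev ∘ t)) {g : Mdl} (hg : Mdl.Ctl g) :
    w.lift t (w.φ g) = ev (t g) := by
  classical
  have hcf := classFun_of_gen (w.tr_gen h)
  have hx : ∀ z : X, extendByZero w.M (w.tr t) (z⁻¹ * w.φ g * z) = if z ∈ w.M then ev (t g) else 0 := by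
    intro z
    split_ifs with hz
    · rw [extendByZero_mem _ _ (mul_mem (mul_mem (inv_mem hz) (w.φ_mem g)) hz),
        ← w.tr_eM t g, ← hcf (w.eM g) ⟨z⁻¹, inv_mem hz⟩]
      congr 1
      ext
      simp [eM_coe]
    · refine extendByZero_not_mem _ _ fun hm => hz ?_
      exact inv_mem_iff.1 (w.ctl_conj hg (z := z⁻¹) (by rwa [inv_inv]))
  rw [lift, indFun, Finset.sum_congr rfl fun z _ => hx z, Finset.sum_ite, Finset.sum_const_zero, add_zero,
    Finset.sum_const, nsmul_eq_mul, ← Fintype.card_subtype, ← Nat.card_eq_fintype_card, ← mul_assoc,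
    inv_mul_cancel₀, one_mul]
  exact Nat.cast_ne_zero.mpr Nat.card_pos.ne'

theorem lift_invol {t : Mdl → ℤ × ℤ} (hs : ∀ g, ¬ Mdl.Ctl g → t g = 0) {z : X} (hz : z * z = 1) :
    w.lift t z = 0 := by
  rw [lift, indFun, Finset.sum_eq_zero, mul_zero]
  intro g _
  by_cases hm : g⁻¹ * z * g ∈ w.M
  · rw [extendByZero_mem _ _ hm, tr, hs _ fun hc => Mdl.ctl_ne_one _ hc ?_, map_zero]
    rw [← map_mul, MulEquiv.map_eq_one_iff]
    refine Subtype.ext ?_
    show g⁻¹ * z * g * (g⁻¹ * z * g) = 1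
    calc g⁻¹ * z * g * (g⁻¹ * z * g) = g⁻¹ * (z * z) * g := by group
      _ = 1 := by rw [hz]; group
  · exact extendByZero_not_mem _ _ hm

theorem classInner_lift [Fintype ↥w.M] (t : Mdl → ℤ × ℤ) {f : X → ℂ} (hf : IsClassFunction X f)
    (t' : Mdl → ℤ × ℤ) (h : ∀ g, t g ≠ 0 → f (w.φ g) = ev (t' g)) :
    classInner (w.lift t) f = classInner (ev ∘ t) (ev ∘ t') := by
  rw [lift, Cfsg.Agent.Char.frobenius _ _ hf, ← w.classInner_tr, classInner, classInner]
  congr 1
  refine Finset.sum_congr rfl fun m _ => ?_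
  by_cases h0 : t (w.eM.symm m) = 0
  · simp [tr, h0]
  · congr 2
    have := h _ h0
    rwa [← w.eM_coe, MulEquiv.apply_symm_apply] at this

/-- The Dade lift of the third character. -/
noncomputable def dlift : X → ℂ := dadeIsometry w.D w.M Hd (w.tr th2)

theorem tr2_supp (m : ↥w.M) (hm : (m : X) ∉ w.D) : w.tr th2 m = 0 := by
  rw [tr, th2_supp _ fun h => hm ⟨w.eM.symm m, h, ?_⟩, map_zero]
  rw [← eM_coe, MulEquiv.apply_symm_apply]

theorem dlift_gen : IsGeneralizedCharacter X w.dlift := by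
  haveI := Fintype.ofFinite ↥w.M
  exact isGenChar_dadeIsometry w.dade (w.tr_gen gen_th2) w.tr2_supp

theorem dlift_ctl {g : Mdl} (hg : Mdl.Ctl g) : w.dlift (w.φ g) = ev (th2 g) := by
  have hcf := classFun_of_gen (w.tr_gen gen_th2)
  by_cases ho : Mdl.Out g
  · rw [dlift, dadeIsometry_apply w.dade hcf (x := 1) (a := w.φ g) (u := 1) ⟨g, ho, rfl⟩ (one_mem _) (by group),
      ← w.tr_eM th2 g]
    rfl
  rw [th2_supp g ho, map_zero, dlift, dadeIsometry_eq_zero w.dade]
  rintro ⟨_, ⟨h, hh, rfl⟩, u, hu, z, e⟩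
  have hcop : (Nat.card (Hd (w.φ h))).Coprime 9 := by
    rw [show (9 : ℕ) = 3 ^ 2 by norm_num]
    exact (w.card_Hd (gen_of_out hh)).pow_right 2
  obtain ⟨k, hk0, hk1⟩ := Nat.chineseRemainder hcop 0 1
  have hu0 : u ^ k = 1 := by
    refine orderOf_dvd_iff_pow_eq_one.1 (dvd_trans ?_ (Nat.modEq_zero_iff_dvd.1 hk0))
    rw [← Subgroup.orderOf_mk u hu]
    exact orderOf_dvd_natCard _
  have ha : w.φ h ^ k = w.φ h := by
    conv_rhs => rw [← pow_one (w.φ h)]
    refine pow_eq_pow_iff_modEq.mpr (hk1.of_dvd (orderOf_dvd_of_pow_eq_one ?_))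
    rw [← map_pow, Mdl.pow_nine h hh.1, map_one]
  have e2 : z * w.φ (g ^ (k % 18)) * z⁻¹ = w.φ h := by
    rw [← pow_eq_pow_mod k (Mdl.pow_eighteen g), map_pow, ← conj_pow, e,
      (dade_commute w.dade ⟨h, hh, rfl⟩ hu).mul_pow, ha, hu0, mul_one]
  have h9 : (g ^ (k % 18)) ^ 3 ^ 2 = 1 := by
    refine w.φ_inj ?_
    rw [map_pow, map_one, show w.φ (g ^ (k % 18)) = z⁻¹ * w.φ h * z⁻¹⁻¹ by rw [← e2]; group, conj_pow,
      show (3 : ℕ) ^ 2 = 9 from rfl, ← map_pow, Mdl.pow_nine h hh.1, map_one, mul_one, mul_inv_cancel]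
  have hne : g ^ (k % 18) ≠ 1 := fun h1 => Mdl.out_ne_one h hh (w.φ_inj (by
    rw [← e2, h1, map_one, mul_one, mul_inv_cancel]))
  have hz : z ∈ w.M := w.ctl_conj (Mdl.ctl_pow g hg ⟨k % 18, Nat.mod_lt _ (by norm_num)⟩
    (Mdl.e_of_pow_three h9) hne) (e2 ▸ w.φ_mem h)
  have hu1 : u = 1 := by
    rw [← Subgroup.mem_bot, ← w.Hd_inf (gen_of_out hh)]
    refine ⟨hu, ?_, Hd_le _ hu⟩
    show u ∈ w.M
    have : u = (w.φ h)⁻¹ * (z * w.φ g * z⁻¹) := by rw [e]; group
    rw [this]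
    exact mul_mem (inv_mem (w.φ_mem h)) (mul_mem (mul_mem hz (w.φ_mem g)) (inv_mem hz))
  rw [hu1, mul_one] at e
  obtain ⟨n, rfl⟩ := w.exists_φ hz
  refine ho ?_
  have hgn : g = n⁻¹ * h * n⁻¹⁻¹ := by
    refine w.φ_inj ?_
    simp only [map_mul, map_inv, inv_inv, ← e]
    group
  rw [hgn]
  exact Mdl.out_conj h n⁻¹ hh

theorem dlift_invol {z : X} (hz : z * z = 1) : w.dlift z = 0 := by
  rw [dlift, dadeIsometry_eq_zero w.dade]
  rintro ⟨_, ⟨h, hh, rfl⟩, u, hu, g, e⟩
  have h2 : w.φ h ^ 2 * u ^ 2 = 1 := by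
    rw [← (dade_commute w.dade ⟨h, hh, rfl⟩ hu).mul_pow, ← e, conj_pow, pow_two, hz, mul_one, mul_inv_cancel]
  have hmem : w.φ h ^ 2 ∈ Hd (w.φ h) ⊓ (w.M ⊓ Subgroup.centralizer ({w.φ h} : Set X)) :=
    Subgroup.mem_inf.2 ⟨(eq_inv_of_mul_eq_one_left h2).symm ▸ inv_mem (pow_mem hu 2),
      Subgroup.mem_inf.2 ⟨pow_mem (w.φ_mem h) 2, pow_mem (Subgroup.mem_centralizer_singleton_iff.2 rfl) 2⟩⟩
  rw [w.Hd_inf (gen_of_out hh), Subgroup.mem_bot] at hmem
  refine Mdl.out_ne_one h hh (w.φ_inj ?_)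
  have h9 : w.φ h ^ 9 = 1 := by rw [← map_pow, Mdl.pow_nine h hh.1, map_one]
  calc w.φ h = (w.φ h ^ 2) ^ 5 * ((w.φ h ^ 9))⁻¹ := by group
    _ = w.φ 1 := by rw [hmem, h9, one_pow, inv_one, mul_one, map_one]

theorem classInner_dlift [Fintype ↥w.M] : classInner w.dlift w.dlift = classInner (ev ∘ th2) (ev ∘ th2) := by
  rw [dlift, classInner_dade_dade w.dade (classFun_of_gen (w.tr_gen gen_th2)) w.tr2_supp
    (classFun_of_gen (w.tr_gen gen_th2)), classInner_tr]

theorem classInner_dlift_one [Fintype ↥w.M] :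
    classInner w.dlift (fun _ => 1) = classInner (ev ∘ th2) (ev ∘ onez) := by
  rw [dlift, classInner_dade w.dade (classFun_of_gen (w.tr_gen gen_th2)) w.tr2_supp
    (ψ := w.tr onez) (fun _ _ => rfl), classInner_tr]
  intro a _
  rw [finsum_mem_eq_finite_toFinset_sum _ (Set.toFinite _), Finset.sum_const, nsmul_eq_mul, mul_one,
    ← Set.ncard_eq_toFinset_card, ← Nat.card_coe_set_eq]
  simp only [SetLike.coe_sort_coe]
  rw [inv_mul_cancel₀ (Nat.cast_ne_zero.mpr Nat.card_pos.ne'), tr]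
  simp [ev_apply, onez]

open Classical in
/-- A function vanishing outside the subgroup, summed over the conjugates of the involution. -/
theorem sum_conj_invol {f : X → ℂ} (hf : ∀ u, u ∉ w.M → f u = 0) :
    ∑ t : X, f (t * w.φ Mdl.S * t⁻¹) =
      ((Finset.univ.filter fun t : X => t * w.φ Mdl.S * t⁻¹ = w.φ Mdl.S).card : ℂ) *
        ∑ p ∈ invols, f (w.φ p) := by
  classical
  set U : X → X := fun t => t * w.φ Mdl.S * t⁻¹ with hU
  have hfib : ∀ p ∈ invols, (Finset.univ.filter fun t : X => U t = w.φ p).card =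
      (Finset.univ.filter fun t : X => U t = w.φ Mdl.S).card := by
    intro p hp
    obtain ⟨h, hh⟩ := Mdl.invol_conj p (Finset.mem_filter.1 hp).2.1 (Finset.mem_filter.1 hp).2.2
    refine Finset.card_equiv (Equiv.mulLeft (w.φ h)⁻¹) fun t => ?_
    simp only [Finset.mem_filter, Finset.mem_univ, true_and, hU, Equiv.coe_mulLeft]
    rw [← hh, map_mul, map_mul, map_inv]
    constructor
    · intro e
      calc _ = (w.φ h)⁻¹ * (t * w.φ Mdl.S * t⁻¹) * w.φ h := by group
        _ = _ := by rw [e]; group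
    · intro e
      calc t * w.φ Mdl.S * t⁻¹ = w.φ h * ((w.φ h)⁻¹ * t * w.φ Mdl.S * ((w.φ h)⁻¹ * t)⁻¹) * (w.φ h)⁻¹ := by group
        _ = _ := by rw [e]
  rw [Finset.mul_sum]
  have hstep : ∀ p ∈ invols, ((Finset.univ.filter fun t : X => U t = w.φ Mdl.S).card : ℂ) * f (w.φ p) =
      ∑ t ∈ Finset.univ.filter (fun t : X => U t = w.φ p), f (U t) := by
    intro p hp
    rw [Finset.sum_congr rfl fun t ht => by rw [(Finset.mem_filter.1 ht).2], Finset.sum_const, nsmul_eq_mul,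
      hfib p hp]
  rw [Finset.sum_congr rfl hstep, ← Finset.sum_biUnion]
  · symm
    refine Finset.sum_subset (Finset.subset_univ _) fun t _ ht => hf _ fun hM => ht ?_
    obtain ⟨p, hp⟩ := w.exists_φ hM
    refine Finset.mem_biUnion.2 ⟨p, Finset.mem_filter.2 ⟨Finset.mem_univ _, ?_, ?_⟩,
      Finset.mem_filter.2 ⟨Finset.mem_univ _, hp.symm⟩⟩
    · refine w.φ_inj ?_
      rw [map_mul, map_one, hp]
      calc U t * U t = t * (w.φ Mdl.S * w.φ Mdl.S) * t⁻¹ := by simp only [hU]; group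
        _ = 1 := by rw [← map_mul, show Mdl.S * Mdl.S = 1 from rfl, map_one]; group
    · intro h1
      rw [h1, map_one] at hp
      have : w.φ Mdl.S = w.φ 1 := by
        rw [map_one]
        calc w.φ Mdl.S = t⁻¹ * U t * t := by simp only [hU]; group
          _ = 1 := by rw [← hp]; group
      exact absurd (w.φ_inj this) (by decide)
  · intro p _ q _ hne
    simp only [Function.onFun, Finset.disjoint_left, Finset.mem_filter, Finset.mem_univ, true_and]
    intro t h1 h2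
    exact hne (w.φ_inj (h1.symm.trans h2))

open Classical in
/-- The number of conjugators of the involution into itself. -/
noncomputable def cs : ℕ := (Finset.univ.filter fun t : X => t * w.φ Mdl.S * t⁻¹ = w.φ Mdl.S).card

theorem cs_pos : 0 < w.cs := by
  classical
  exact Finset.card_pos.2 ⟨1, Finset.mem_filter.2 ⟨Finset.mem_univ _, by group⟩⟩

/-- The sum of a lift over the products of two conjugates of the involution. -/
theorem pair_sum_lift {t : Mdl → ℤ × ℤ} (hs : ∀ g, ¬ Mdl.Ctl g → t g = 0) :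
    ∑ a : X, ∑ b : X, w.lift t (a * w.φ Mdl.S * a⁻¹ * (b * w.φ Mdl.S * b⁻¹)) =
      (Nat.card X : ℂ) * (w.cs : ℂ) ^ 2 / 162 * ev (∑ p ∈ invols, ∑ q ∈ invols, t (p * q)) := by
  classical
  set U : X → X := fun a => a * w.φ Mdl.S * a⁻¹ with hU
  set F : X → ℂ := extendByZero w.M (w.tr t) with hF
  have hFφ : ∀ g, F (w.φ g) = ev (t g) := fun g => by
    rw [hF, extendByZero_mem _ _ (w.φ_mem g), ← w.tr_eM t g]
    rfl
  have hsq : w.φ Mdl.S * w.φ Mdl.S = 1 := by rw [← map_mul, show Mdl.S * Mdl.S = 1 from rfl, map_one]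
  have hin : ∀ u v : X, u * u = 1 → v * v = 1 → F (u * v) ≠ 0 → u ∈ w.M ∧ v ∈ w.M := by
    intro u v hu hv hne
    have hm : u * v ∈ w.M := by
      by_contra hm
      exact hne (extendByZero_not_mem _ _ hm)
    obtain ⟨g, hg⟩ := w.exists_φ hm
    have hc : Mdl.Ctl g := by
      by_contra hc
      rw [← hg, hFφ, hs g hc, map_zero] at hne
      exact hne rfl
    have huM : u ∈ w.M := by
      refine w.ctl_conj hc ?_
      rw [hg, inv_eq_of_mul_eq_one_right hu]
      have : u * (u * v) * u = (u * v)⁻¹ := by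
        rw [mul_inv_rev, inv_eq_of_mul_eq_one_right hu, inv_eq_of_mul_eq_one_right hv, ← mul_assoc u u v, hu,
          one_mul]
      rw [this]
      exact inv_mem hm
    refine ⟨huM, ?_⟩
    have := mul_mem (inv_mem huM) hm
    rwa [inv_mul_cancel_left] at this
  have hUsq : ∀ a, U a * U a = 1 := fun a => by
    calc U a * U a = a * (w.φ Mdl.S * w.φ Mdl.S) * a⁻¹ := by simp only [hU]; group
      _ = 1 := by rw [hsq]; group
  have hshift : ∀ g : X, ∑ a : X, ∑ b : X, F (g⁻¹ * (U a * U b) * g) = ∑ a : X, ∑ b : X, F (U a * U b) := by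
    intro g
    refine Fintype.sum_equiv (Equiv.mulLeft g⁻¹) _ _ fun a => Fintype.sum_equiv (Equiv.mulLeft g⁻¹) _ _ fun b => ?_
    congr 1
    simp only [Equiv.coe_mulLeft, hU]
    group
  have hinner : ∀ a : X, ∑ b : X, F (U a * U b) = (w.cs : ℂ) * ∑ q ∈ invols, F (U a * w.φ q) := by
    intro a
    have := w.sum_conj_invol (f := fun v => if v * v = 1 then F (U a * v) else 0) fun v hv => by
      by_contra hne
      simp only [ne_eq, ite_eq_right_iff, not_forall] at hne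
      obtain ⟨hv2, hne⟩ := hne
      exact hv (hin _ _ (hUsq a) hv2 hne).2
    rw [Finset.sum_congr rfl fun b _ => if_pos (hUsq b)] at this
    rw [this]
    refine congrArg _ (Finset.sum_congr rfl fun q hq => ?_)
    rw [if_pos]
    rw [← map_mul, (Finset.mem_filter.1 hq).2.1, map_one]
  have houter : ∑ a : X, ∑ q ∈ invols, F (U a * w.φ q) =
      (w.cs : ℂ) * ∑ p ∈ invols, ∑ q ∈ invols, F (w.φ p * w.φ q) := by
    have := w.sum_conj_invol (f := fun u => if u * u = 1 then ∑ q ∈ invols, F (u * w.φ q) else 0) fun u hu => by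
      by_contra hne
      simp only [ne_eq, ite_eq_right_iff, not_forall] at hne
      obtain ⟨hu2, hne⟩ := hne
      obtain ⟨q, hq, hne⟩ := Finset.exists_ne_zero_of_sum_ne_zero hne
      exact hu (hin _ _ hu2 (by rw [← map_mul, (Finset.mem_filter.1 hq).2.1, map_one]) hne).1
    rw [Finset.sum_congr rfl fun b _ => if_pos (hUsq b)] at this
    rw [this]
    refine congrArg _ (Finset.sum_congr rfl fun p hp => ?_)
    rw [if_pos]
    rw [← map_mul, (Finset.mem_filter.1 hp).2.1, map_one]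
  have hcard : (Nat.card ↥w.M : ℂ) = 162 := by
    rw [← Nat.card_congr w.eM.toEquiv, Nat.card_eq_fintype_card, Mdl.card]
    norm_num
  simp only [lift, indFun, ← hF, hcard]
  rw [Finset.sum_congr rfl fun a _ => (Finset.mul_sum _ _ _).symm, ← Finset.mul_sum]
  rw [Finset.sum_congr rfl fun a _ => Finset.sum_comm, Finset.sum_comm,
    Finset.sum_congr rfl fun g _ => hshift g, Finset.sum_const, Finset.card_univ, nsmul_eq_mul,
    Finset.sum_congr rfl fun a _ => hinner a, ← Finset.mul_sum, houter, ← Nat.card_eq_fintype_card,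
    map_sum]
  simp only [map_sum, ← map_mul, hFφ]
  ring

/-- The same sum for an integral combination of irreducible characters. -/
theorem pair_sum_coeff {F : X → ℂ} {z : IrrCharacter X → ℤ}
    (hz : ∀ g, F g = ∑ χ : IrrCharacter X, (z χ : ℂ) * (χ : X → ℂ) g) (v : X) :
    ∑ a : X, ∑ b : X, F (a * v * a⁻¹ * (b * v * b⁻¹)) =
      (Nat.card X : ℂ) ^ 2 * ∑ χ : IrrCharacter X, (z χ : ℂ) * ((χ : X → ℂ) v ^ 2 / (χ : X → ℂ) 1) := by
  have hχ : ∀ χ : IrrCharacter X, ∑ a : X, ∑ b : X, (χ : X → ℂ) (a * v * a⁻¹ * (b * v * b⁻¹)) =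
      (Nat.card X : ℂ) ^ 2 * ((χ : X → ℂ) v ^ 2 / (χ : X → ℂ) 1) := by
    intro χ
    have h1 := irr_one_ne_zero χ.2
    have hb : ∀ a : X, ∑ b : X, (χ : X → ℂ) (a * v * a⁻¹ * (b * v * b⁻¹)) =
        (Nat.card X : ℂ) * (χ : X → ℂ) v ^ 2 / (χ : X → ℂ) 1 := by
      intro a
      have h := sum_conj_mul χ.2 (a * v * a⁻¹) v
      rw [isClassFunction_character (irr_isCharacter χ.2) v a] at h
      rw [eq_div_iff h1, mul_comm, h]
      ring
    rw [Finset.sum_congr rfl fun a _ => hb a, Finset.sum_const, Finset.card_univ, nsmul_eq_mul,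
      ← Nat.card_eq_fintype_card]
    ring
  simp only [hz]
  rw [Finset.sum_congr rfl fun a _ => Finset.sum_comm, Finset.sum_comm, Finset.mul_sum]
  refine Finset.sum_congr rfl fun χ _ => ?_
  rw [Finset.sum_congr rfl fun a _ => (Finset.mul_sum _ _ _).symm, ← Finset.mul_sum, hχ]
  ring

end WreathCfg

end Cfsg.Agent.Spor.PSLFourThree
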