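import Mathlib.Data.ZMod.Basic
import Mathlib.Algebra.Group.Action.Defs
import Mathlib.Data.Fintype.Prod
import Mathlib.Tactic

/-!
# A group of order 162: an elementary abelian group of order 27 extended by a dihedral group of order 6
-/

set_option autoImplicit false

namespace Cfsg.Agent.Spor.PSLFourThree.Wreath

/-- The element `a(a, b, c) * x ^ i * s ^ e`. -/
@[ext] structure Mdl where
  a : ZMod 3
  b : ZMod 3
  c : ZMod 3
  i : ZMod 3
  e : Bool
deriving DecidableEq

namespace Mdl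

/-- The underlying tuple. -/
def tup : Mdl ≃ ZMod 3 × ZMod 3 × ZMod 3 × ZMod 3 × Bool where
  toFun g := (g.a, g.b, g.c, g.i, g.e)
  invFun t := ⟨t.1, t.2.1, t.2.2.1, t.2.2.2.1, t.2.2.2.2⟩
  left_inv _ := rfl
  right_inv _ := rfl

instance : Fintype Mdl := Fintype.ofEquiv _ tup.symm

/-- The sign of the dihedral part. -/
def sg : Bool → ZMod 3
  | false => 1
  | true => 2

instance : One Mdl := ⟨⟨0, 0, 0, 0, false⟩⟩

instance : Mul Mdl := ⟨fun g h =>
  ⟨g.a + sg g.e * h.a, g.b + h.b + g.i * (sg g.e * h.a),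
    g.c + sg g.e * h.c + g.i * h.b + 2 * (g.i * g.i) * (sg g.e * h.a),
    g.i + sg g.e * h.i, xor g.e h.e⟩⟩

instance : Inv Mdl := ⟨fun g =>
  ⟨sg g.e * (-g.a), -g.b + g.i * g.a,
    sg g.e * (-g.c + g.i * g.b + g.i * g.i * g.a), sg g.e * (-g.i), g.e⟩⟩

theorem sg_xor : ∀ e f : Bool, sg (xor e f) = sg e * sg f := by decide

theorem sg_sq : ∀ e : Bool, sg e * sg e = 1 := by decide

theorem three : (3 : ZMod 3) = 0 := rfl

theorem inv_mul : ∀ g : Mdl, g⁻¹ * g = 1 := by decide +kernel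

theorem one_mul' : ∀ g : Mdl, (1 : Mdl) * g = g := by decide +kernel

theorem mul_one' : ∀ g : Mdl, g * (1 : Mdl) = g := by decide +kernel

theorem mul_assoc' (g h k : Mdl) : g * h * k = g * (h * k) := by
  obtain ⟨a, b, c, i, e⟩ := g
  obtain ⟨a', b', c', i', e'⟩ := h
  obtain ⟨a'', b'', c'', i'', e''⟩ := k
  ext
  · show a + sg e * a' + sg (xor e e') * a'' = a + sg e * (a' + sg e' * a'')
    rw [sg_xor]; ring
  · show b + b' + i * (sg e * a') + b'' + (i + sg e * i') * (sg (xor e e') * a'') =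
      b + (b' + b'' + i' * (sg e' * a'')) + i * (sg e * (a' + sg e' * a''))
    rw [sg_xor]
    linear_combination (i' * sg e' * a'') * sg_sq e
  · show c + sg e * c' + i * b' + 2 * (i * i) * (sg e * a') + sg (xor e e') * c'' + (i + sg e * i') * b'' +
        2 * ((i + sg e * i') * (i + sg e * i')) * (sg (xor e e') * a'') =
      c + sg e * (c' + sg e' * c'' + i' * b'' + 2 * (i' * i') * (sg e' * a'')) +
        i * (b' + b'' + i' * (sg e' * a'')) + 2 * (i * i) * (sg e * (a' + sg e' * a''))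
    rw [sg_xor]
    linear_combination (4 * i * i' * sg e' * a'' + 2 * (i' * i') * sg e * sg e' * a'') * sg_sq e +
      (i * i' * sg e' * a'') * three
  · show i + sg e * i' + sg (xor e e') * i'' = i + sg e * (i' + sg e' * i'')
    rw [sg_xor]; ring
  · show xor (xor e e') e'' = xor e (xor e' e'')
    exact Bool.xor_assoc e e' e''

instance : Group Mdl where
  mul_assoc := mul_assoc'
  one_mul := one_mul'
  mul_one := mul_one'
  inv_mul_cancel := inv_mul

theorem card : Fintype.card Mdl = 162 := by decide +kernel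

/-- The element of the abelian part. -/
def A (a b c : ZMod 3) : Mdl := ⟨a, b, c, 0, false⟩

/-- The element of order three outside the abelian part. -/
def X : Mdl := ⟨0, 0, 0, 1, false⟩

/-- The involution. -/
def S : Mdl := ⟨0, 0, 0, 0, true⟩

/-- The central element of the subgroup of order 81. -/
def Y : Mdl := ⟨0, 0, 1, 0, false⟩

/-- The elements whose conjugators into the group of order 162 lie in it. -/
def Ctl (g : Mdl) : Prop :=
  (g.e = false ∧ (g.a ≠ 0 ∨ (g.i = 0 ∧ g ≠ 1))) ∨ (g.e = true ∧ g * g ≠ 1)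

instance : DecidablePred Ctl := fun g => inferInstanceAs (Decidable (_ ∨ _))

/-- The elements of the subgroup of order 81 outside the abelian part. -/
def Out (g : Mdl) : Prop := g.e = false ∧ g.i ≠ 0

instance : DecidablePred Out := fun g => inferInstanceAs (Decidable (_ ∧ _))

theorem pow_nine : ∀ g : Mdl, g.e = false → g ^ 9 = 1 := by decide +kernel

theorem e_mul (g h : Mdl) : (g * h).e = xor g.e h.e := rfl

theorem e_pow_odd (g : Mdl) : ∀ k : ℕ, (g ^ (2 * k + 1)).e = g.e := by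
  intro k
  induction k with
  | zero => rw [pow_one]
  | succ k ih =>
    rw [show 2 * (k + 1) + 1 = 2 * k + 1 + 1 + 1 by ring, pow_succ, pow_succ, e_mul, e_mul, ih,
      Bool.xor_assoc, Bool.xor_self, Bool.xor_false]

theorem e_of_pow_three {g : Mdl} {k : ℕ} (h : g ^ 3 ^ k = 1) : g.e = false := by
  obtain ⟨m, hm⟩ : Odd (3 ^ k) := Odd.pow (by decide)
  rw [← e_pow_odd g m, ← hm, h]
  rfl

theorem y_central : ∀ g : Mdl, g.e = false → g * Y = Y * g := by decide +kernel

theorem sq_of_e : ∀ g : Mdl, g.e = true → (g * g).e = false ∧ (g * g).a = 0 ∧ (g * g).i = 0 := by decide +kernel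

theorem cube_of_nine : ∀ g : Mdl, g.e = false → g.a ≠ 0 → g.i ≠ 0 →
    (g * g * g).e = false ∧ (g * g * g).a = 0 ∧ (g * g * g).i = 0 ∧ g * g * g ≠ 1 := by decide +kernel

theorem a_part : ∀ g : Mdl, g.e = false → g.i = 0 → g = A g.a g.b g.c := by decide +kernel

theorem cent_e : ∀ g : Mdl, g.e = false → (g.a ≠ 0 ∨ g.i ≠ 0) → ∀ h : Mdl, g * h = h * g → h.e = false := by
  decide +kernel

theorem cent_comm : ∀ g : Mdl, g.e = false → (g.a ≠ 0 ∨ g.i ≠ 0) → ∀ h : Mdl, g * h = h * g →
    ∀ k : Mdl, g * k = k * g → h * k = k * h := by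
  decide +kernel

theorem cent_a : ∀ g : Mdl, g.e = false → g.i = 0 → g.a ≠ 0 → ∀ h : Mdl, g * h = h * g →
    h.e = false ∧ h.i = 0 := by decide +kernel

theorem invol_conj : ∀ g : Mdl, g * g = 1 → g ≠ 1 → ∃ h : Mdl, h * S * h⁻¹ = g := by decide +kernel

theorem xcl_conj : ∀ g : Mdl, g.e = false → g.i ≠ 0 → g.a = 0 → ∃ h : Mdl, h * X * h⁻¹ = g := by decide +kernel

theorem out_conj : ∀ g h : Mdl, Out g → Out (h * g * h⁻¹) := by
  intro g h hg
  obtain ⟨he, hi⟩ := hg
  have key : ∀ g h : Mdl, g.e = false → (h * g * h⁻¹).e = false ∧ (h * g * h⁻¹).i = sg h.e * g.i := by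
    intro g h he
    obtain ⟨a, b, c, i, e⟩ := g
    obtain ⟨a', b', c', i', e'⟩ := h
    subst he
    refine ⟨?_, ?_⟩
    · show xor (xor e' false) e' = false
      simp
    · show i' + sg e' * i + sg (xor e' false) * (sg e' * -i') = sg e' * i
      rw [Bool.xor_false]
      linear_combination (-i') * sg_sq e'
  refine ⟨(key g h he).1, ?_⟩
  rw [(key g h he).2]
  refine mul_ne_zero ?_ hi
  cases h.e <;> decide

theorem pow_eighteen : ∀ g : Mdl, g ^ 18 = 1 := by decide +kernel

theorem ctl_pow : ∀ g : Mdl, Ctl g → ∀ k : Fin 18, (g ^ k.val).e = false → g ^ k.val ≠ 1 → Ctl (g ^ k.val) := by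
  decide +kernel

theorem out_ne_one : ∀ g : Mdl, Out g → g ≠ 1 := by decide +kernel

theorem ctl_ne_one : ∀ g : Mdl, Ctl g → g * g ≠ 1 := by decide +kernel

theorem gen_form : ∀ g : Mdl, g.e = false →
    g = A g.a 0 0 * A 0 g.b 0 * A 0 0 g.c * ⟨0, 0, 0, g.i, false⟩ := by decide +kernel

end Mdl

end Cfsg.Agent.Spor.PSLFourThree.Wreath
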